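import Cfsg.Agent.Lib.SylClasses.Wreath

/-!
The situation of the theorem: the centraliser of `t` in `G` is an odd group extended by signed permutations.
-/

set_option autoImplicit false

namespace Cfsg.Agent.SylClasses

universe u w

/-- The signed permutations inside the centraliser of the image of the central element. -/
structure Setup (ι : Type w) [Fintype ι] [DecidableEq ι] (G : Type u) [Group G] where
  /-- half the number of points -/
  n : ℕ
  card_eq : Fintype.card ι = 2 * n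
  two_le : 2 ≤ n
  /-- the embedding -/
  emb : W ι →* G
  inj : Function.Injective emb
  /-- the retraction of the centraliser -/
  proj : ↥(Subgroup.centralizer ({emb W.zz} : Set G)) →* W ι
  proj_eq : ∀ (a : W ι) (h : emb a ∈ Subgroup.centralizer ({emb W.zz} : Set G)), proj ⟨emb a, h⟩ = a
  ker_odd : Odd (Nat.card proj.ker)
  ker_free : ∀ g, proj g = 1 → ∀ a : ι, Commute (g : G) (emb (W.fl (Pi.single a 1))) → (g : G) = 1
  index_odd : ¬ 2 ∣ (Subgroup.centralizer ({emb W.zz} : Set G)).index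
  no_two : ∀ H : Subgroup G, H.Normal → H.index ≠ 2

namespace Setup

variable {ι : Type w} [Fintype ι] [DecidableEq ι] {G : Type u} [Group G] (s : Setup ι G)

/-- The central involution. -/
abbrev t : G := s.emb W.zz

theorem emb_comm_t (a : W ι) : s.emb a * s.t = s.t * s.emb a := by
  rw [t, ← map_mul, W.zz_central, map_mul]

theorem emb_mem (a : W ι) : s.emb a ∈ Subgroup.centralizer ({s.t} : Set G) :=
  Subgroup.mem_centralizer_singleton_iff.2 (s.emb_comm_t a)

theorem proj_emb (a : W ι) : s.proj ⟨s.emb a, s.emb_mem a⟩ = a := s.proj_eq a _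

/-- The image of the standard subgroup of an involutive map. -/
def bm (μ : ι → ι) (hμ : Function.Involutive μ) : Subgroup G := (W.std μ hμ).map s.emb

/-- The flips. -/
def D : Subgroup G := s.bm id (fun _ => rfl)

theorem bm_le (μ : ι → ι) (hμ : Function.Involutive μ) : s.bm μ hμ ≤ Subgroup.centralizer ({s.t} : Set G) := by
  rintro _ ⟨a, -, rfl⟩
  exact s.emb_mem a

theorem bm_comm {μ : ι → ι} {hμ : Function.Involutive μ} {x y : G} (hx : x ∈ s.bm μ hμ) (hy : y ∈ s.bm μ hμ) :
    x * y = y * x := by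
  obtain ⟨a, ha, rfl⟩ := hx
  obtain ⟨b, hb, rfl⟩ := hy
  rw [← map_mul, W.std_comm ha hb, map_mul]

theorem bm_sq {μ : ι → ι} {hμ : Function.Involutive μ} {x : G} (hx : x ∈ s.bm μ hμ) : x * x = 1 := by
  obtain ⟨a, ha, rfl⟩ := hx
  rw [← map_mul, W.std_sq ha, map_one]

theorem t_mem_bm (μ : ι → ι) (hμ : Function.Involutive μ) : s.t ∈ s.bm μ hμ :=
  ⟨_, W.fl_mem_std.2 fun _ => rfl, rfl⟩

theorem fl_mem_D (v : ι → ZMod 2) : s.emb (W.fl v) ∈ s.D := ⟨_, W.fl_mem_std.2 fun _ => rfl, rfl⟩

theorem mem_D {x : G} : x ∈ s.D ↔ ∃ v, x = s.emb (W.fl v) := by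
  refine ⟨?_, fun ⟨v, e⟩ => e ▸ s.fl_mem_D v⟩
  rintro ⟨a, ⟨-, ha⟩, rfl⟩
  refine ⟨a.v, congrArg s.emb ?_⟩
  ext1
  · rfl
  · exact Equiv.ext fun i => (ha i).elim id id

end Setup

end Cfsg.Agent.SylClasses
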