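import Cfsg.Agent.Lib.SylClasses.Standard
import Cfsg.Agent.Lib.SylClasses.Setup

/-!
Standard subgroups inside `G`: centralisers, conjugation of 2-subgroups of the centraliser of `t` into the signed
permutations, and twisted situations.
-/

set_option autoImplicit false
set_option linter.style.haveILetI false

namespace Cfsg.Agent.SylClasses

universe u w

namespace Setup

variable {ι : Type w} [Fintype ι] [DecidableEq ι] {G : Type u} [Group G] (s : Setup ι G)

theorem card_bm (μ : ι → ι) (hμ : Function.Involutive μ) : Nat.card (s.bm μ hμ) = 2 ^ Fintype.card ι := by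
  rw [bm, Subgroup.card_map_of_injective s.inj, W.card_std]

theorem emb_proj_comm {g : G} (hg : g ∈ Subgroup.centralizer ({s.t} : Set G)) :
    ∃ o : ↥(Subgroup.centralizer ({s.t} : Set G)), s.proj o = 1 ∧ g = (o : G) * s.emb (s.proj ⟨g, hg⟩) := by
  refine ⟨⟨g, hg⟩ * (⟨s.emb (s.proj ⟨g, hg⟩), s.emb_mem _⟩)⁻¹, ?_, ?_⟩
  · exact (map_mul s.proj _ _).trans (by rw [map_inv, s.proj_eq, mul_inv_cancel])
  · show g = g * (s.emb (s.proj ⟨g, hg⟩))⁻¹ * s.emb (s.proj ⟨g, hg⟩)
    rw [inv_mul_cancel_right]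

/-- What commutes with a standard subgroup. -/
theorem cent_bm {μ : ι → ι} {hμ : Function.Involutive μ} {g : G} (h : ∀ x ∈ s.bm μ hμ, g * x = x * g) :
    ∃ o : ↥(Subgroup.centralizer ({s.t} : Set G)), s.proj o = 1 ∧
      ∃ b ∈ W.std μ hμ, g = (o : G) * s.emb b ∧ ((∃ a, μ a = a) → (o : G) = 1) := by
  have hg : g ∈ Subgroup.centralizer ({s.t} : Set G) :=
    Subgroup.mem_centralizer_singleton_iff.2 (h _ (s.t_mem_bm μ hμ))
  obtain ⟨o, ho, e⟩ := s.emb_proj_comm hg
  have hb : s.proj ⟨g, hg⟩ ∈ W.std μ hμ := W.mem_std_of_comm fun b hb => by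
    have e' : (⟨g, hg⟩ : ↥(Subgroup.centralizer ({s.t} : Set G))) * ⟨s.emb b, s.emb_mem b⟩ =
        ⟨s.emb b, s.emb_mem b⟩ * ⟨g, hg⟩ := Subtype.ext (h _ ⟨b, hb, rfl⟩)
    simpa only [map_mul, s.proj_emb] using congrArg s.proj e'
  refine ⟨o, ho, _, hb, e, fun ⟨a, ha⟩ => s.ker_free o ho a ?_⟩
  have hfl : W.fl (Pi.single a 1) ∈ W.std μ hμ := W.fl_mem_std.2 fun i => by
    by_cases hi : i = a
    · subst hi; rw [ha]
    · rw [Pi.single_eq_of_ne hi, Pi.single_eq_of_ne fun e => hi (by rw [← hμ i, e, ha])]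
  have e1 : (o : G) = g * (s.emb (s.proj ⟨g, hg⟩))⁻¹ := eq_mul_inv_of_mul_eq e.symm
  rw [e1]
  have c2 : Commute (s.emb (s.proj ⟨g, hg⟩)) (s.emb (W.fl (Pi.single a 1))) := by
    show _ * _ = _ * _
    rw [← map_mul, ← map_mul, W.std_comm hb hfl]
  exact Commute.mul_left (h _ ⟨_, hfl, rfl⟩) c2.inv_left

theorem mem_bm_of_comm {μ : ι → ι} {hμ : Function.Involutive μ} (hfix : ∃ a, μ a = a) {g : G}
    (h : ∀ x ∈ s.bm μ hμ, g * x = x * g) : g ∈ s.bm μ hμ := by
  obtain ⟨o, -, b, hb, e, hf⟩ := s.cent_bm h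
  rw [e, hf hfix, one_mul]
  exact ⟨b, hb, rfl⟩

theorem mem_D_of_comm [Nonempty ι] {g : G} (h : ∀ x ∈ s.D, g * x = x * g) : g ∈ s.D :=
  s.mem_bm_of_comm ⟨Classical.arbitrary ι, rfl⟩ h

/-- The signed permutations inside the centraliser of `t`. -/
def range' : Subgroup ↥(Subgroup.centralizer ({s.t} : Set G)) :=
  s.emb.range.subgroupOf (Subgroup.centralizer ({s.t} : Set G))

theorem card_cent [Finite G] : Nat.card ↥(Subgroup.centralizer ({s.t} : Set G)) = Nat.card s.proj.ker * Nat.card (W ι) := by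
  rw [← Subgroup.card_mul_index s.proj.ker, Subgroup.index_ker]
  congr 1
  rw [MonoidHom.range_eq_top.2 (fun a => ⟨_, s.proj_emb a⟩)]
  exact Nat.card_congr Subgroup.topEquiv.toEquiv

theorem range_index_odd [Finite G] : ¬ 2 ∣ s.range'.index := by
  have h := Subgroup.card_mul_index s.range'
  have hc : Nat.card s.range' = Nat.card (W ι) := by
    rw [range', Nat.card_congr (Subgroup.subgroupOfEquivOfLe (by rintro _ ⟨a, rfl⟩; exact s.emb_mem a)).toEquiv]
    exact Nat.card_congr (MonoidHom.ofInjective s.inj).toEquiv.symm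
  rw [hc, s.card_cent, mul_comm (Nat.card s.proj.ker)] at h
  have hpos : 0 < Nat.card (W ι) := Nat.card_pos
  rw [Nat.eq_of_mul_eq_mul_left hpos h]
  exact fun hd => Nat.not_even_iff_odd.2 s.ker_odd (even_iff_two_dvd.2 hd)

/-- A 2-subgroup of the centraliser of `t` moves into the signed permutations by the odd kernel. -/
theorem exists_conj [Finite G] {P : Subgroup G} (hP : IsPGroup 2 P) (hle : P ≤ Subgroup.centralizer ({s.t} : Set G)) :
    ∃ z : ↥(Subgroup.centralizer ({s.t} : Set G)), s.proj z = 1 ∧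
      ∀ x ∈ P, (z : G) * x * (z : G)⁻¹ ∈ s.emb.range := by
  haveI : Fact (Nat.Prime 2) := ⟨Nat.prime_two⟩
  set H := Subgroup.centralizer ({s.t} : Set G)
  obtain ⟨R⟩ : Nonempty (Sylow 2 s.range') := inferInstance
  have hi : ¬ 2 ∣ ((R : Subgroup s.range').map s.range'.subtype).index := by
    rw [Subgroup.index_map_of_injective _ s.range'.subtype_injective, Subgroup.range_subtype]
    exact Nat.prime_two.not_dvd_mul R.not_dvd_index s.range_index_odd
  set T : Sylow 2 H := (R.isPGroup'.map s.range'.subtype).toSylow hi with hT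
  obtain ⟨Q, hQ⟩ := (show IsPGroup 2 (P.subgroupOf H) from hP.comap_subtype).exists_le_sylow
  obtain ⟨c, hc⟩ := MulAction.exists_smul_eq H Q T
  obtain ⟨o, ho, e⟩ := s.emb_proj_comm (g := (c⁻¹ : H)) (c⁻¹).2
  refine ⟨o⁻¹, by rw [map_inv, ho, inv_one], fun x hx => ?_⟩
  have h1 : c * ⟨x, hle hx⟩ * c⁻¹ ∈ (T : Subgroup H) := by
    rw [← hc]
    exact Subgroup.smul_mem_pointwise_smul _ (MulAut.conj c) _ (hQ (show (⟨x, hle hx⟩ : H) ∈ _ from hx))
  have h2 : (c : G) * x * (c : G)⁻¹ ∈ s.emb.range := by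
    have : c * ⟨x, hle hx⟩ * c⁻¹ ∈ s.range' := Subgroup.map_subtype_le _ h1
    exact this
  have hc' : (c : G) = (s.emb (s.proj ⟨_, (c⁻¹).2⟩))⁻¹ * (o : G)⁻¹ := by
    rw [← mul_inv_rev, ← e]; simp
  rw [hc'] at h2
  have := s.emb.range.mul_mem (s.emb.range.mul_mem ⟨s.proj ⟨_, (c⁻¹).2⟩, rfl⟩ h2)
    (s.emb.range.inv_mem ⟨s.proj ⟨_, (c⁻¹).2⟩, rfl⟩)
  simpa [mul_assoc] using this

/-- An elementary subgroup of the centraliser of largest order is standard up to the kernel. -/
theorem exists_bm [Finite G] {B : Subgroup G} (hle : B ≤ Subgroup.centralizer ({s.t} : Set G))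
    (h2 : ∀ x ∈ B, x * x = 1) (hcard : 2 ^ Fintype.card ι ≤ Nat.card B) :
    ∃ z : ↥(Subgroup.centralizer ({s.t} : Set G)), s.proj z = 1 ∧ ∃ μ : ι → ι, ∃ hμ : Function.Involutive μ,
      B.map (MulAut.conj (z : G)).toMonoidHom = s.bm μ hμ := by
  have hP : IsPGroup 2 B := fun x => ⟨1, Subtype.ext (by simpa [pow_two] using h2 x x.2)⟩
  obtain ⟨z, hz, hin⟩ := s.exists_conj hP hle
  set B' := B.map (MulAut.conj (z : G)).toMonoidHom
  set A := B'.comap s.emb
  have hle' : B' ≤ s.emb.range := by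
    rintro _ ⟨x, hx, rfl⟩
    exact hin x hx
  have hmap : A.map s.emb = B' := Subgroup.map_comap_eq_self hle'
  have hA2 : ∀ a ∈ A, a * a = 1 := by
    intro a ha
    refine s.inj ?_
    obtain ⟨x, hx, e⟩ := Subgroup.mem_map.1 ha
    rw [map_mul, map_one, ← e, ← map_mul, h2 x hx, map_one]
  have hcA : Nat.card A = Nat.card B := by
    rw [← Subgroup.card_map_of_injective (f := s.emb) s.inj, hmap,
      Subgroup.card_map_of_injective (MulAut.conj (z : G)).injective]
  obtain ⟨μ, hμ, e⟩ := W.exists_std hA2 (le_antisymm (W.elementary_bound hA2).1 (hcA ▸ hcard))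
  exact ⟨z, hz, μ, hμ, by show B' = _; rw [← hmap, e]; rfl⟩

theorem twist_eq (χ : W ι →* Multiplicative (ZMod 2)) (hχ : χ W.zz = 1) :
    Subgroup.centralizer ({(s.emb.comp (W.twist χ)) W.zz} : Set G) = Subgroup.centralizer ({s.t} : Set G) := by
  rw [MonoidHom.comp_apply, W.twist_zz χ hχ]

theorem twist_le (χ : W ι →* Multiplicative (ZMod 2)) (hχ : χ W.zz = 1) :
    Subgroup.centralizer ({(s.emb.comp (W.twist χ)) W.zz} : Set G) ≤ Subgroup.centralizer ({s.t} : Set G) :=
  le_of_eq (s.twist_eq χ hχ)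

/-- The situation with the embedding twisted by an automorphism fixing the central element. -/
def twisted (χ : W ι →* Multiplicative (ZMod 2)) (hχ : χ W.zz = 1) : Setup ι G where
  n := s.n
  card_eq := s.card_eq
  two_le := s.two_le
  emb := s.emb.comp (W.twist χ)
  inj := s.inj.comp (Function.LeftInverse.injective (W.twist_twist χ hχ))
  proj := ((W.twist χ).comp s.proj).comp (Subgroup.inclusion (s.twist_le χ hχ))
  proj_eq a h := by
    show W.twist χ (s.proj ⟨s.emb (W.twist χ a), _⟩) = a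
    rw [s.proj_eq, W.twist_twist χ hχ]
  ker_odd := by
    have key : ∀ x, ((W.twist χ).comp s.proj).comp (Subgroup.inclusion (s.twist_le χ hχ)) x = 1 ↔
        s.proj (Subgroup.inclusion (s.twist_le χ hχ) x) = 1 := fun x =>
      ⟨fun h => (W.twist_twist χ hχ _).symm.trans ((congrArg (W.twist χ) h).trans (map_one _)),
        fun h => (congrArg (W.twist χ) h).trans (map_one _)⟩
    rw [Nat.card_congr (Equiv.subtypeEquiv
      (p := fun x => x ∈ (((W.twist χ).comp s.proj).comp (Subgroup.inclusion (s.twist_le χ hχ))).ker)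
      (q := fun x => x ∈ s.proj.ker) (MulEquiv.subgroupCongr (s.twist_eq χ hχ)).toEquiv fun x => key x)]
    exact s.ker_odd
  ker_free g hg a hc := by
    have hg' : s.proj (Subgroup.inclusion (s.twist_le χ hχ) g) = 1 :=
      (W.twist_twist χ hχ _).symm.trans ((congrArg (W.twist χ) hg).trans (map_one _))
    refine s.ker_free _ hg' a ?_
    have ht : Commute (g : G) (s.emb W.zz) :=
      Subgroup.mem_centralizer_singleton_iff.1 (s.twist_le χ hχ g.2)
    have hc' : Commute (g : G) (s.emb (W.twist χ (W.fl (Pi.single a 1)))) := hc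
    show Commute (g : G) (s.emb (W.fl (Pi.single a 1)))
    obtain ⟨c, hc1, k⟩ : ∃ c : W ι, (c = 1 ∨ c = W.zz) ∧
        W.fl (Pi.single a (1 : ZMod 2)) = c * W.twist χ (W.fl (Pi.single a 1)) := by
      have two : ∀ x : ZMod 2, x = 0 ∨ x = 1 := by decide
      refine ⟨W.fl fun _ => (χ (W.fl (Pi.single a 1))).toAdd, ?_, ?_⟩
      · rcases two (χ (W.fl (Pi.single a 1))).toAdd with h | h <;> rw [h]
        · exact Or.inl rfl
        · exact Or.inr rfl
      · ext1
        · funext i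
          show (Pi.single a 1 : ι → ZMod 2) i = (χ (W.fl (Pi.single a 1))).toAdd + ((Pi.single a 1 : ι → ZMod 2) i + (χ (W.fl (Pi.single a 1))).toAdd)
          rw [add_left_comm, CharTwo.add_self_eq_zero, add_zero]
        · rfl
    rw [k, map_mul]
    rcases hc1 with rfl | rfl
    · rw [map_one, one_mul]; exact hc'
    · exact ht.mul_right hc'
  index_odd := by rw [s.twist_eq χ hχ]; exact s.index_odd
  no_two := s.no_two

theorem parHom_zz (s : Setup ι G) : W.parHom (W.zz : W ι) = 1 := by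
  show Multiplicative.ofAdd (∑ _i : ι, (1 : ZMod 2)) = 1
  rw [Finset.sum_const, Finset.card_univ, s.card_eq, nsmul_one, Nat.cast_mul, Nat.cast_ofNat,
    show (2 : ZMod 2) = 0 from rfl, zero_mul]
  rfl

theorem sgnHom_zz : W.sgnHom (W.zz : W ι) = 1 := by simp [W.sgnHom, W.zz]

/-- Flips multiplied by `t` along their parity. -/
def flipTwist : Setup ι G := s.twisted W.parHom s.parHom_zz

/-- Permutations multiplied by `t` along their sign. -/
def permTwist : Setup ι G := s.twisted W.sgnHom sgnHom_zz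

end Setup

end Cfsg.Agent.SylClasses
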