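import Mathlib.GroupTheory.Transfer
import Mathlib.GroupTheory.IndexNormal
import Mathlib.GroupTheory.Sylow
import Mathlib.GroupTheory.SpecificGroups.Cyclic
import Mathlib.GroupTheory.GroupAction.SubMulAction

/-!
Transfer keeping centralisers: without a subgroup of index two, an involution outside a subgroup of index two of a
Sylow 2-subgroup moves into it together with its centraliser there. (The argument of S1853, without simplicity.)
-/

set_option autoImplicit false
set_option linter.style.haveILetI false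
set_option linter.unusedVariables false

namespace Cfsg.Agent.SylClasses

variable {G : Type*} [Group G]

theorem map_centralizer_conj (y g : G) :
    (Subgroup.centralizer {y}).map (MulAut.conj g).toMonoidHom =
      Subgroup.centralizer {g * y * g⁻¹} := by
  ext x
  simp only [Subgroup.mem_map, Subgroup.mem_centralizer_singleton_iff]
  constructor
  · rintro ⟨c, hc, rfl⟩
    change g * c * g⁻¹ * (g * y * g⁻¹) = g * y * g⁻¹ * (g * c * g⁻¹)
    calc g * c * g⁻¹ * (g * y * g⁻¹) = g * (c * y) * g⁻¹ := by group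
      _ = g * (y * c) * g⁻¹ := by rw [hc]
      _ = _ := by group
  · intro hx
    refine ⟨g⁻¹ * x * g, ?_, by simp [mul_assoc]⟩
    calc g⁻¹ * x * g * y = g⁻¹ * (x * (g * y * g⁻¹)) * g := by group
      _ = g⁻¹ * (g * y * g⁻¹ * x) * g := by rw [hx]
      _ = _ := by group

/-- The transfer argument. -/
theorem exists_conj_mem [Finite G] (h2 : ∀ H : Subgroup G, H.Normal → H.index ≠ 2) (S : Sylow 2 G)
    (T : Subgroup G) (hTS : T ≤ S) (hT2 : T.relIndex (S : Subgroup G) = 2)
    {y : G} (hy : y ^ 2 = 1) (hyS : y ∈ S) (hyT : y ∉ T) :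
    ∃ g : G, g * y * g⁻¹ ∈ T ∧
      ((S : Subgroup G) ⊓ Subgroup.centralizer {y}).map (MulAut.conj g).toMonoidHom ≤
        (S : Subgroup G) ⊓ Subgroup.centralizer {g * y * g⁻¹} := by
  classical
  haveI hTn : (T.subgroupOf (S : Subgroup G)).Normal := Subgroup.normal_of_index_eq_two hT2
  have hcard : Nat.card (↥(S : Subgroup G) ⧸ T.subgroupOf (S : Subgroup G)) = 2 := hT2
  have hcyc : IsCyclic (↥(S : Subgroup G) ⧸ T.subgroupOf (S : Subgroup G)) :=
    haveI : Fact (Nat.Prime 2) := ⟨Nat.prime_two⟩
    isCyclic_of_prime_card (p := 2) hcard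
  letI : CommGroup (↥(S : Subgroup G) ⧸ T.subgroupOf (S : Subgroup G)) := hcyc.commGroup
  set φ := QuotientGroup.mk' (T.subgroupOf (S : Subgroup G)) with hφdef
  have hφ : ∀ s : ↥(S : Subgroup G), φ s = 1 ↔ (s : G) ∈ T := fun s =>
    (QuotientGroup.eq_one_iff s).trans Subgroup.mem_subgroupOf
  have htr : ∀ x : G, φ.transfer x = 1 := by
    intro x
    have hd : φ.transfer.ker.index ∣ 2 := by
      rw [Subgroup.index_ker]
      exact (Subgroup.card_subgroup_dvd_card _).trans (dvd_of_eq hcard)
    rcases (Nat.dvd_prime Nat.prime_two).1 hd with h | h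
    · exact MonoidHom.mem_ker.1 (by rw [Subgroup.index_eq_one.1 h]; exact Subgroup.mem_top x)
    · exact absurd h (h2 _ inferInstance)
  set v : G ⧸ (S : Subgroup G) → ↥(S : Subgroup G) ⧸ T.subgroupOf (S : Subgroup G) := fun q =>
    if h : q.out⁻¹ * y * q.out ∈ (S : Subgroup G) then φ ⟨_, h⟩ else 1 with hv
  have hfix : ∀ q : G ⧸ (S : Subgroup G), y • q = q ↔ q.out⁻¹ * y * q.out ∈ (S : Subgroup G) := by
    intro q
    have h0 : y • q = ((y * q.out : G) : G ⧸ (S : Subgroup G)) := by
      rw [← MulAction.Quotient.coe_smul_out]; rfl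
    rw [h0]
    conv_lhs => rhs; rw [← QuotientGroup.out_eq' q]
    rw [eq_comm, QuotientGroup.eq, mul_assoc]
  set F := {q : G ⧸ (S : Subgroup G) // y • q = q}
  haveI : Fintype F := Fintype.ofFinite _
  haveI : Fintype (Quotient (MulAction.orbitRel (Subgroup.zpowers y) (G ⧸ (S : Subgroup G)))) :=
    Fintype.ofFinite _
  have hprod : ∏ q : F, v q.1 = 1 := by
    rw [← htr y, MonoidHom.transfer_eq_prod_quotient_orbitRel_zpowers_quot]
    have hout : ∀ q : F, (Quotient.mk'' q.1 :
        Quotient (MulAction.orbitRel (Subgroup.zpowers y) (G ⧸ (S : Subgroup G)))).out = q.1 := by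
      intro q
      obtain ⟨⟨z, hz⟩, h⟩ := MulAction.orbitRel_apply.1
        (Quotient.mk_out (s := MulAction.orbitRel (Subgroup.zpowers y) (G ⧸ (S : Subgroup G))) q.1)
      have hst : Subgroup.zpowers y ≤ MulAction.stabilizer G q.1 := Subgroup.zpowers_le.2 q.2
      exact h.symm.trans (hst hz)
    refine Fintype.prod_of_injective (fun q : F => Quotient.mk'' q.1) ?_ _ _ ?_ ?_
    · intro a b hab
      exact Subtype.ext (by rw [← hout a, ← hout b]; exact congrArg Quotient.out hab)
    · intro Ω hΩ
      have hper : Function.minimalPeriod (y • ·) Ω.out = 2 := by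
        have h2 : Function.IsPeriodicPt (y • ·) 2 Ω.out := by
          change y • (y • Ω.out) = Ω.out
          rw [smul_smul, ← pow_two, hy, one_smul]
        refine ((Nat.dvd_prime Nat.prime_two).1 h2.minimalPeriod_dvd).resolve_left fun h1 => hΩ ?_
        exact ⟨⟨Ω.out, Function.minimalPeriod_eq_one_iff_isFixedPt.1 h1⟩, Quotient.out_eq' Ω⟩
      rw [← map_one φ]
      congr 1
      apply Subtype.ext
      simp [hper, hy]
    · intro q
      have hper : Function.minimalPeriod (y • ·) q.1 = 1 :=
        Function.minimalPeriod_eq_one_iff_isFixedPt.2 q.2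
      simp only [hv, dif_pos ((hfix _).1 q.2)]
      congr 1
      apply Subtype.ext
      simp only
      rw [hout q, hper, pow_one]
  set a := φ ⟨y, hyS⟩ with ha
  have ha1 : a ≠ 1 := fun h => hyT ((hφ _).1 h)
  have hval : ∀ q : F, v q.1 = 1 ∨ v q.1 = a := by
    intro q
    haveI := hcyc
    haveI : Fintype (↥(S : Subgroup G) ⧸ T.subgroupOf (S : Subgroup G)) := Fintype.ofFinite _
    by_contra hc
    push Not at hc
    have h2 : ∀ s : ↥(S : Subgroup G), ((s : G)) ^ 2 = 1 → (φ s) ^ 2 = 1 := fun s hs => by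
      rw [← map_pow, show s ^ 2 = 1 from Subtype.ext hs, map_one]
    have hvq : v q.1 ^ 2 = 1 := by
      simp only [hv, dif_pos ((hfix _).1 q.2)]
      refine h2 _ ?_
      calc (q.1.out⁻¹ * y * q.1.out) ^ 2 = q.1.out⁻¹ * y ^ 2 * q.1.out := by
            rw [pow_two, pow_two]; group
        _ = 1 := by rw [hy]; group
    have hle := IsCyclic.card_pow_eq_one_le (α := ↥(S : Subgroup G) ⧸ T.subgroupOf (S : Subgroup G))
      (n := 2) two_pos
    have hsub : ({1, a, v q.1} : Finset _) ⊆ Finset.univ.filter (fun x => x ^ 2 = 1) := by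
      intro x hx
      simp only [Finset.mem_insert, Finset.mem_singleton] at hx
      rw [Finset.mem_filter]
      refine ⟨Finset.mem_univ _, ?_⟩
      rcases hx with rfl | rfl | rfl
      · exact one_pow _
      · exact h2 ⟨y, hyS⟩ hy
      · exact hvq
    have h3 := (Finset.card_le_card hsub).trans hle
    rw [Finset.card_insert_of_notMem (by simp [Ne.symm ha1, Ne.symm hc.1]),
      Finset.card_pair (Ne.symm hc.2)] at h3
    omega
  -- the fixed cosets with value one
  set C := (S : Subgroup G) ⊓ Subgroup.centralizer {y}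
  have hF1 : ∀ q : G ⧸ (S : Subgroup G), q.out⁻¹ * y * q.out ∈ T ↔
      ∃ g : G, (g : G ⧸ (S : Subgroup G)) = q ∧ g⁻¹ * y * g ∈ T := by
    intro q
    refine ⟨fun h => ⟨q.out, QuotientGroup.out_eq' q, h⟩, ?_⟩
    rintro ⟨g, rfl, hg⟩
    obtain ⟨s, hs⟩ := QuotientGroup.mk_out_eq_mul (S : Subgroup G) g
    rw [hs]
    have := hTn.conj_mem ⟨_, hTS hg⟩ hg s⁻¹
    rw [Subgroup.mem_subgroupOf] at this
    simpa [mul_assoc] using this
  let A : SubMulAction ↥C (G ⧸ (S : Subgroup G)) :=
    { carrier := {q | q.out⁻¹ * y * q.out ∈ T}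
      smul_mem' := by
        intro c q hq
        refine (hF1 _).2 ⟨(c : G) * q.out, ?_, ?_⟩
        · change _ = (c : G) • q
          rw [← MulAction.Quotient.coe_smul_out]; rfl
        · have hc := Subgroup.mem_centralizer_singleton_iff.1 (Subgroup.mem_inf.1 c.2).2
          have h : ((c : G) * q.out)⁻¹ * y * ((c : G) * q.out) = q.out⁻¹ * y * q.out := by
            calc ((c : G) * q.out)⁻¹ * y * ((c : G) * q.out)
                = q.out⁻¹ * (c : G)⁻¹ * (y * c) * q.out := by group
              _ = _ := by rw [← hc]; group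
          rw [h]
          exact hq }
  have hodd : ¬ 2 ∣ Nat.card A := by
    have hcardF : ¬ 2 ∣ Nat.card F := by
      have hZ : IsPGroup 2 ↥(Subgroup.zpowers y) := IsPGroup.of_card_dvd_pow (n := 1) (by
        rw [Nat.card_zpowers, pow_one]; exact orderOf_dvd_of_pow_eq_one hy)
      have hmod := hZ.card_modEq_card_fixedPoints (α := G ⧸ (S : Subgroup G))
      have heq : Nat.card F = Nat.card (MulAction.fixedPoints ↥(Subgroup.zpowers y) (G ⧸ (S : Subgroup G))) :=
        Nat.card_congr (Equiv.subtypeEquivRight fun q => by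
          rw [MulAction.mem_fixedPoints]
          constructor
          · intro h z
            exact (Subgroup.zpowers_le.2 h : Subgroup.zpowers y ≤ MulAction.stabilizer G q) z.2
          · exact fun h => h ⟨y, Subgroup.mem_zpowers y⟩)
      intro h
      refine S.not_dvd_index ?_
      rw [Subgroup.index]
      rw [← heq] at hmod
      exact (Nat.ModEq.dvd_iff hmod dvd_rfl).2 h
    set B := Finset.univ.filter (fun q : F => v q.1 = a) with hB
    have hpow : a ^ B.card = 1 := by
      have h1 : ∏ q : F, v q.1 = ∏ q : F, if v q.1 = a then a else 1 :=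
        Finset.prod_congr rfl fun q _ => by rcases hval q with h | h <;> simp [h, Ne.symm ha1]
      rw [hprod, ← Finset.prod_filter, Finset.prod_const] at h1
      exact h1.symm
    have hBe : 2 ∣ B.card := by
      have h2 : orderOf a = 2 := orderOf_eq_prime (by
        rw [ha, ← map_pow, show (⟨y, hyS⟩ : ↥(S : Subgroup G)) ^ 2 = 1 from Subtype.ext hy, map_one]) ha1
      exact h2 ▸ orderOf_dvd_of_pow_eq_one hpow
    have hA : Nat.card A = (Finset.univ.filter (fun q : F => ¬ v q.1 = a)).card := by
      change Nat.card {q : G ⧸ (S : Subgroup G) // q.out⁻¹ * y * q.out ∈ T} = _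
      rw [← Fintype.card_subtype, ← Nat.card_eq_fintype_card]
      refine Nat.card_congr ((Equiv.subtypeEquivRight (q := fun q : G ⧸ (S : Subgroup G) =>
        y • q = q ∧ v q ≠ a) fun q => ?_).trans (Equiv.subtypeSubtypeEquivSubtypeInter _ _).symm)
      constructor
      · intro (h : q.out⁻¹ * y * q.out ∈ T)
        refine ⟨(hfix q).2 (hTS h), ?_⟩
        simp only [hv, dif_pos (hTS h)]
        rw [(hφ _).2 h]
        exact Ne.symm ha1
      · rintro ⟨h, hne⟩
        have h1 := (hval ⟨q, h⟩).resolve_right hne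
        simp only [hv, dif_pos ((hfix q).1 h)] at h1
        exact (hφ _).1 h1
    intro h
    apply hcardF
    rw [Nat.card_eq_fintype_card, ← Finset.card_univ,
      ← Finset.card_filter_add_card_filter_not (fun q : F => v q.1 = a), ← hA]
    exact Nat.dvd_add hBe h
  obtain ⟨⟨q, hq⟩, hqfix⟩ :=
    (show IsPGroup 2 ↥C from S.isPGroup'.to_le inf_le_left).nonempty_fixed_point_of_prime_not_dvd_card A hodd
  refine ⟨q.out⁻¹, by rw [inv_inv]; exact hq, ?_⟩
  refine le_inf ?_ (by rw [← map_centralizer_conj]; exact Subgroup.map_mono inf_le_right)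
  rintro x ⟨c, hc, rfl⟩
  have h1 : c • q = q := congrArg Subtype.val (hqfix ⟨c, hc⟩)
  rw [← MulAction.Quotient.coe_smul_out, smul_eq_mul] at h1
  replace h1 := h1.trans (QuotientGroup.out_eq' q).symm
  rw [eq_comm, QuotientGroup.eq] at h1
  simpa [mul_assoc] using h1

end Cfsg.Agent.SylClasses
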