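import Cfsg.Agent.Lib.SylClasses.Wreath
import Mathlib.Algebra.Order.BigOperators.Ring.Finset
import Mathlib.Algebra.BigOperators.Group.Finset.Sigma
import Mathlib.Data.Fintype.BigOperators
import Mathlib.Data.Fintype.Quotient

/-!
Elementary abelian subgroups of the signed permutations: their order, and the largest ones.
-/

set_option autoImplicit false
set_option linter.style.haveILetI false

namespace Cfsg.Agent.SylClasses.W

variable {ι : Type*} [Fintype ι] [DecidableEq ι]

theorem comm_of_sq {G : Type*} [Group G] {A : Subgroup G} (h : ∀ a ∈ A, a * a = 1) {a b : G} (ha : a ∈ A)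
    (hb : b ∈ A) : a * b = b * a := by
  rw [← inv_eq_of_mul_eq_one_right (h _ (A.mul_mem ha hb)), mul_inv_rev, inv_eq_of_mul_eq_one_right (h a ha),
    inv_eq_of_mul_eq_one_right (h b hb)]

/-- The relation of lying in one orbit. -/
def orbRel (A : Subgroup (W ι)) : Setoid ι where
  r i j := ∃ a ∈ A, a.p i = j
  iseqv :=
    { refl := fun _ => ⟨1, A.one_mem, rfl⟩
      symm := fun {i j} ⟨a, ha, e⟩ => ⟨a⁻¹, A.inv_mem ha, by rw [inv_p, ← e]; exact a.p.symm_apply_apply i⟩
      trans := fun {i j k} ⟨a, ha, e⟩ ⟨b, hb, e'⟩ =>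
        ⟨b * a, A.mul_mem hb ha, by rw [mul_p, Equiv.Perm.mul_apply, e, e']⟩ }

open Classical in
/-- The bound by the orbits. -/
theorem card_le_prod {A : Subgroup (W ι)} (hA : ∀ a ∈ A, a * a = 1) :
    Nat.card A ≤ ∏ o : Quotient (orbRel A), Nat.card {i : ι // Quotient.mk (orbRel A) i = o} * 2 := by
  set r := orbRel A
  set P := {p : Equiv.Perm ι // ∃ a ∈ A, a.p = p}
  set V := {v : ι → ZMod 2 // ∀ a ∈ A, ∀ i, v (a.p i) = v i}
  have hcomm : ∀ {a b : W ι}, a ∈ A → b ∈ A → ∀ i, a.p (b.p i) = b.p (a.p i) := fun {a b} ha hb i => by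
    have := congrArg W.p (comm_of_sq hA ha hb)
    exact congrArg (fun p : Equiv.Perm ι => p i) this
  let s : P → W ι := fun p => p.2.choose
  have hs : ∀ p : P, s p ∈ A ∧ (s p).p = p.1 := fun p => p.2.choose_spec
  let f : A → P × V := fun a => (⟨a.1.p, a.1, a.2, rfl⟩, ⟨(a.1 * (s ⟨a.1.p, a.1, a.2, rfl⟩)⁻¹).v, by
    intro b hb i
    set k := a.1 * (s ⟨a.1.p, a.1, a.2, rfl⟩)⁻¹ with hk
    have hkA : k ∈ A := A.mul_mem a.2 (A.inv_mem (hs _).1)
    have hk1 : k = fl k.v := by
      ext1
      · rfl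
      · rw [fl_p, hk, mul_p, inv_p, (hs _).2, mul_inv_cancel]
    have e : b * k * b⁻¹ = k := by rw [comm_of_sq hA hb hkA, mul_inv_cancel_right]
    rw [hk1, conj_fl] at e
    have := congrFun (fl_inj.1 e) (b.p i)
    simpa using this.symm⟩)
  have hf : Function.Injective f := by
    rintro ⟨a, ha⟩ ⟨b, hb⟩ e
    simp only [f, Prod.mk.injEq] at e
    obtain ⟨e1', e2'⟩ := e
    have e1 : a.p = b.p := congrArg Subtype.val e1'
    have e2 := congrArg Subtype.val e2'
    refine Subtype.ext ?_
    have es : s ⟨a.p, a, ha, rfl⟩ = s ⟨b.p, b, hb, rfl⟩ := congrArg s (Subtype.ext e1)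
    have : a * (s ⟨a.p, a, ha, rfl⟩)⁻¹ = b * (s ⟨b.p, b, hb, rfl⟩)⁻¹ := by
      ext1
      · exact e2
      · simp only [mul_p, inv_p, (hs _).2, mul_inv_cancel]
    rw [es] at this
    exact mul_right_cancel this
  let g : P → ∀ o : Quotient r, {i : ι // Quotient.mk r i = o} := fun p o =>
    ⟨p.1 o.out, by
      obtain ⟨a, ha, e⟩ := p.2
      calc Quotient.mk r (p.1 o.out) = Quotient.mk r o.out := Quotient.sound (r.symm ⟨a, ha, by rw [e]⟩)
        _ = o := Quotient.out_eq o⟩
  have hg : Function.Injective g := by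
    intro p q e
    refine Subtype.ext (Equiv.ext fun i => ?_)
    obtain ⟨a, ha, ea⟩ := p.2
    obtain ⟨b, hb, eb⟩ := q.2
    obtain ⟨c, hc, ec⟩ : r.r (Quotient.mk r i).out i := Quotient.mk_out (s := r) i
    have h1 : p.1 (Quotient.mk r i).out = q.1 (Quotient.mk r i).out :=
      congrArg Subtype.val (congrFun e (Quotient.mk r i))
    rw [← ea, ← eb] at h1 ⊢
    rw [← ec, hcomm ha hc, hcomm hb hc, h1]
  let h : V → Quotient r → ZMod 2 := fun v o => v.1 o.out
  have hh : Function.Injective h := by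
    intro v w e
    refine Subtype.ext (funext fun i => ?_)
    obtain ⟨c, hc, ec⟩ : r.r (Quotient.mk r i).out i := Quotient.mk_out (s := r) i
    rw [← ec, v.2 c hc, w.2 c hc]
    exact congrFun e (Quotient.mk r i)
  calc Nat.card A ≤ Nat.card (P × V) := Nat.card_le_card_of_injective f hf
    _ = Nat.card P * Nat.card V := Nat.card_prod _ _
    _ ≤ Nat.card (∀ o : Quotient r, {i : ι // Quotient.mk r i = o}) * Nat.card (Quotient r → ZMod 2) :=
      Nat.mul_le_mul (Nat.card_le_card_of_injective g hg) (Nat.card_le_card_of_injective h hh)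
    _ = _ := by rw [Nat.card_pi, Nat.card_pi, Nat.card_zmod, ← Finset.prod_mul_distrib]

theorem two_mul_le_pow : ∀ m, 1 ≤ m → m * 2 ≤ 2 ^ m
  | 1, _ => le_rfl
  | m + 2, _ => by
    have := two_mul_le_pow (m + 1) (by omega)
    rw [pow_succ 2 (m + 1)]
    omega

theorem two_mul_lt_pow : ∀ m, 3 ≤ m → m * 2 < 2 ^ m
  | 0, h => absurd h (by norm_num)
  | m + 1, h => by
    rcases (by omega : m = 2 ∨ 3 ≤ m) with rfl | hm
    · norm_num
    · have := two_mul_lt_pow m hm
      rw [pow_succ]
      omega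

open Classical in
/-- The order of an elementary abelian subgroup, with equality only for orbits of size at most two. -/
theorem elementary_bound {A : Subgroup (W ι)} (hA : ∀ a ∈ A, a * a = 1) :
    Nat.card A ≤ 2 ^ Fintype.card ι ∧ (Nat.card A = 2 ^ Fintype.card ι →
      ∀ o : Quotient (orbRel A), Nat.card {i : ι // Quotient.mk (orbRel A) i = o} ≤ 2) := by
  set r := orbRel A
  have hpos : ∀ o : Quotient r, 1 ≤ Nat.card {i : ι // Quotient.mk r i = o} := fun o =>
    Nat.card_pos_iff.2 ⟨⟨⟨o.out, Quotient.out_eq o⟩⟩, inferInstance⟩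
  have hsum : ∑ o : Quotient r, Nat.card {i : ι // Quotient.mk r i = o} = Fintype.card ι := by
    simp only [Nat.card_eq_fintype_card]
    rw [← Fintype.card_sigma]
    exact Fintype.card_congr (Equiv.sigmaFiberEquiv _)
  have hle : ∏ o : Quotient r, Nat.card {i : ι // Quotient.mk r i = o} * 2 ≤ 2 ^ Fintype.card ι := by
    rw [← hsum, ← Finset.prod_pow_eq_pow_sum]
    exact Finset.prod_le_prod (fun o _ => Nat.zero_le _) (fun o _ => two_mul_le_pow _ (hpos o))
  refine ⟨(card_le_prod hA).trans hle, fun e o => ?_⟩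
  by_contra hc
  have hlt : ∏ o : Quotient r, Nat.card {i : ι // Quotient.mk r i = o} * 2 < 2 ^ Fintype.card ι := by
    rw [← hsum, ← Finset.prod_pow_eq_pow_sum]
    exact Finset.prod_lt_prod (fun o _ => Nat.mul_pos (hpos o) two_pos) (fun o _ => two_mul_le_pow _ (hpos o))
      ⟨o, Finset.mem_univ o, two_mul_lt_pow _ (by omega)⟩
  exact absurd e (Nat.ne_of_lt (lt_of_le_of_lt (card_le_prod hA) hlt))

/-- An elementary abelian subgroup of largest order is standard. -/
theorem exists_std {A : Subgroup (W ι)} (hA : ∀ a ∈ A, a * a = 1) (hcard : Nat.card A = 2 ^ Fintype.card ι) :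
    ∃ μ : ι → ι, ∃ hμ : Function.Involutive μ, A = std μ hμ := by
  classical
  set r := orbRel A
  have h2 : ∀ {i j k : ι}, r.r i j → r.r i k → j ≠ i → k ≠ i → j = k := by
    intro i j k hj hk nj nk
    by_contra hne
    have h3 : ({i, j, k} : Finset ι).card = 3 := Finset.card_eq_three.2 ⟨i, j, k, nj.symm, nk.symm, hne, rfl⟩
    have : ({i, j, k} : Finset ι).card ≤ Nat.card {x : ι // Quotient.mk r x = Quotient.mk r i} := by
      rw [Nat.card_eq_fintype_card, Fintype.card_subtype]
      refine Finset.card_le_card fun x hx => Finset.mem_filter.2 ⟨Finset.mem_univ _, ?_⟩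
      simp only [Finset.mem_insert, Finset.mem_singleton] at hx
      rcases hx with rfl | rfl | rfl
      · rfl
      · exact Quotient.sound (r.symm hj)
      · exact Quotient.sound (r.symm hk)
    have h4 : Nat.card {x : ι // Quotient.mk r x = Quotient.mk r i} ≤ 2 :=
      (elementary_bound hA).2 hcard (Quotient.mk r i)
    simp only [Nat.card_eq_fintype_card] at this h4
    linarith
  let μ : ι → ι := fun i => if h : ∃ j, r.r i j ∧ j ≠ i then h.choose else i
  have hμ1 : ∀ {i j}, r.r i j → j ≠ i → μ i = j := fun {i j} hj nj => by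
    have h : ∃ j, r.r i j ∧ j ≠ i := ⟨j, hj, nj⟩
    simp only [μ, dif_pos h]
    exact h2 h.choose_spec.1 hj h.choose_spec.2 nj
  have hμ : Function.Involutive μ := by
    intro i
    by_cases h : ∃ j, r.r i j ∧ j ≠ i
    · obtain ⟨j, hj, nj⟩ := h
      rw [hμ1 hj nj, hμ1 (r.symm hj) nj.symm]
    · simp only [μ, dif_neg h]
  refine ⟨μ, hμ, Subgroup.eq_of_le_of_card_ge ?_ (hcard ▸ (elementary_bound fun a => std_sq).1)⟩
  intro a ha
  refine ⟨fun i => ?_, fun i => ?_⟩
  · by_cases h : ∃ j, r.r i j ∧ j ≠ i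
    · obtain ⟨j, hj, nj⟩ := h
      rw [hμ1 hj nj]
      have hsq : ∀ k, a.v k + a.v (a.p.symm k) = 0 := fun k => congrFun (congrArg W.v (hA a ha)) k
      by_cases hmov : a.p i = i
      · obtain ⟨b, hb, eb⟩ := hj
        have e := congrFun (congrArg W.v (comm_of_sq hA ha hb)) j
        simp only [mul_v, Pi.add_apply, Function.comp_apply] at e
        have hj' : a.p j = j := by
          have hp := congrArg (fun p : Equiv.Perm ι => p i) (congrArg W.p (comm_of_sq hA ha hb))
          simp only [mul_p, Equiv.Perm.mul_apply] at hp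
          rwa [hmov, eb] at hp
        rw [(Equiv.symm_apply_eq _).2 hj'.symm, (Equiv.symm_apply_eq _).2 eb.symm, add_comm (a.v j)] at e
        exact add_left_cancel e
      · have hr : r.r i (a.p i) := ⟨a, ha, rfl⟩
        rw [← h2 hr hj hmov nj]
        have e := hsq (a.p i)
        rw [Equiv.symm_apply_apply] at e
        exact CharTwo.add_eq_zero.1 e
    · simp only [μ, dif_neg h]
  · by_cases h : a.p i = i
    · exact Or.inl h
    · exact Or.inr (hμ1 ⟨a, ha, rfl⟩ h).symm

end Cfsg.Agent.SylClasses.W
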