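import Cfsg.Agent.Lib.SylClasses.Elementary
import Mathlib.GroupTheory.Perm.Sign

/-!
The standard elementary subgroups: order and centralisers; normal form of involutions; the twisting automorphisms.
-/

set_option autoImplicit false
set_option linter.style.haveILetI false

namespace Cfsg.Agent.SylClasses.W

variable {ι : Type*} [Fintype ι] [DecidableEq ι]

/-- The smaller point of a pair in some numbering. -/
noncomputable def lo (μ : ι → ι) (i : ι) : Prop := (Fintype.equivFin ι i : ℕ) ≤ Fintype.equivFin ι (μ i)

theorem lo_flip {μ : ι → ι} (hμ : Function.Involutive μ) {i : ι} (h : μ i ≠ i) : lo μ (μ i) ↔ ¬ lo μ i := by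
  have hne : (Fintype.equivFin ι (μ i) : ℕ) ≠ Fintype.equivFin ι i := fun e =>
    h ((Fintype.equivFin ι).injective (Fin.ext e))
  unfold lo
  rw [hμ i]
  omega

theorem lo_fixed {μ : ι → ι} {i : ι} (h : μ i = i) : lo μ i := by unfold lo; rw [h]

open Classical in
/-- The standard subgroup has the largest order. -/
theorem card_std {μ : ι → ι} (hμ : Function.Involutive μ) : Nat.card (std μ hμ) = 2 ^ Fintype.card ι := by
  refine le_antisymm (elementary_bound fun a => std_sq).1 ?_
  have e : (2 : ℕ) ^ Fintype.card ι = Nat.card (ι → ZMod 2) := by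
    rw [Nat.card_eq_fintype_card, Fintype.card_fun, ZMod.card]
  rw [e]
  let rep : ι → ι := fun i => if lo μ i then i else μ i
  let mov : (ι → ZMod 2) → ι → Prop := fun f i => μ i ≠ i ∧ f (μ (rep i)) = 1
  have hrep : ∀ i, rep (μ i) = rep i := fun i => by
    by_cases h : μ i = i
    · rw [h]
    · simp only [rep, lo_flip hμ h, hμ i]
      split_ifs <;> rfl
  have hmov : ∀ f i, mov f (μ i) ↔ mov f i := fun f i => by
    simp only [mov, hrep, hμ i, ne_comm]
  let pf : (ι → ZMod 2) → ι → ι := fun f i => if mov f i then μ i else i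
  have hpf : ∀ f, Function.Involutive (pf f) := fun f i => by
    by_cases h : mov f i
    · simp only [pf, if_pos h, if_pos ((hmov f i).2 h), hμ i]
    · simp only [pf, if_neg h]
  let Φ : (ι → ZMod 2) → std μ hμ := fun f => ⟨⟨fun i => f (rep i), (hpf f).toPerm⟩, fun i => by simp only [hrep],
    fun i => by
      show pf f i = i ∨ pf f i = μ i
      simp only [pf]
      split_ifs
      · exact Or.inr rfl
      · exact Or.inl rfl⟩
  refine Nat.card_le_card_of_injective Φ fun f g h => funext fun i => ?_
  have hv := congrFun (congrArg (fun a : std μ hμ => a.1.v) h)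
  have hp := fun j => congrArg (fun a : std μ hμ => a.1.p j) h
  by_cases hl : lo μ i
  · have := hv i
    simpa [Φ, rep, hl] using this
  · have hne : μ i ≠ i := fun e => hl (lo_fixed e)
    have hne' : μ (μ i) ≠ μ i := by rw [hμ i]; exact hne.symm
    have hl' : lo μ (μ i) := (lo_flip hμ hne).2 hl
    have e1 : rep (μ i) = μ i := by simp only [rep, if_pos hl']
    have hiff : ∀ f : ι → ZMod 2, mov f (μ i) ↔ f i = 1 := fun f => by
      simp only [mov, e1, hμ i]
      exact and_iff_right hne.symm
    have := hp (μ i)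
    change pf f (μ i) = pf g (μ i) at this
    simp only [pf, hμ i, hiff] at this
    have two : ∀ x : ZMod 2, x = 0 ∨ x = 1 := by decide
    rcases two (f i) with a | a <;> rcases two (g i) with b | b <;> rw [a, b] at this ⊢
    · simp [hne.symm, hne] at this
    · simp [hne.symm, hne] at this

theorem mem_std_of_comm {μ : ι → ι} {hμ : Function.Involutive μ} {a : W ι}
    (h : ∀ b ∈ std μ hμ, a * b = b * a) : a ∈ std μ hμ := by
  have hp : ∀ i, a.p i = i ∨ a.p i = μ i := by
    intro i
    set v : ι → ZMod 2 := fun j => if j = i ∨ j = μ i then 1 else 0 with hv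
    have hinv : InvVec μ v := fun j => by
      simp only [hv]
      refine if_congr ?_ rfl rfl
      rw [hμ.injective.eq_iff, eq_comm (a := μ j) (b := i), show (i = μ j ↔ j = μ i) from
        ⟨fun e => by rw [e, hμ], fun e => by rw [e, hμ]⟩, or_comm]
    have e := h _ (fl_mem_std.2 hinv)
    rw [← mul_inv_eq_iff_eq_mul, conj_fl, fl_inj] at e
    have := congrFun e (a.p i)
    simp [hv] at this
    exact or_iff_not_imp_left.2 this
  refine ⟨fun i => ?_, hp⟩
  by_cases hi : μ i = i
  · rw [hi]
  have hmem : pm (Equiv.swap i (μ i)) ∈ std μ hμ := ⟨fun _ => rfl, fun j => by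
    rw [pm_p]
    by_cases h1 : j = i
    · subst h1; exact Or.inr (Equiv.swap_apply_left _ _)
    by_cases h2 : j = μ i
    · subst h2; rw [hμ]; exact Or.inr (Equiv.swap_apply_right _ _)
    exact Or.inl (Equiv.swap_apply_of_ne_of_ne h1 h2)⟩
  have := congrFun (congrArg W.v (h _ hmem)) (μ i)
  simpa [Equiv.symm_swap] using this

/-- An involution is conjugate to one without flips on the moved points. -/
theorem invol_form {a : W ι} (ha : a * a = 1) :
    ∃ w : ι → ZMod 2, ∀ i, a.p i ≠ i → (fl w * a * (fl w)⁻¹).v i = 0 := by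
  classical
  have hp : Function.Involutive a.p := fun i => congrArg (fun q : W ι => q.p i) ha
  have hs : ∀ i, a.p.symm i = a.p i := fun i => (Equiv.symm_apply_eq _).2 (hp i).symm
  have hsq : ∀ i, a.v i + a.v (a.p i) = 0 := fun i => by
    have := congrFun (congrArg W.v ha) i
    simpa [hs] using this
  refine ⟨fun i => if a.p i ≠ i ∧ lo a.p i then a.v i else 0, fun i hi => ?_⟩
  have hlo := lo_flip hp hi
  have conj : ∀ w : ι → ZMod 2, (fl w * a * (fl w)⁻¹).v i = w i + a.v i + w (a.p i) := by
    intro w
    simp [Equiv.Perm.one_def, Equiv.Perm.mul_def, hs]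
  rw [conj]
  have hi' : a.p (a.p i) ≠ a.p i := fun e => hi (a.p.injective e)
  by_cases hl : lo a.p i
  · have hl' : ¬ lo a.p (a.p i) := fun h => hlo.1 h hl
    simp only [if_pos (show a.p i ≠ i ∧ lo a.p i from ⟨hi, hl⟩),
      if_neg (show ¬ (a.p (a.p i) ≠ a.p i ∧ lo a.p (a.p i)) from fun h => hl' h.2), add_zero]
    exact CharTwo.add_self_eq_zero _
  · simp only [if_neg (show ¬ (a.p i ≠ i ∧ lo a.p i) from fun h => hl h.2),
      if_pos (show a.p (a.p i) ≠ a.p i ∧ lo a.p (a.p i) from ⟨hi', hlo.2 hl⟩), zero_add]
    exact hsq i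

/-- Multiplication by the central element along a character. -/
def twist (χ : W ι →* Multiplicative (ZMod 2)) : W ι →* W ι where
  toFun a := ⟨a.v + fun _ => (χ a).toAdd, a.p⟩
  map_one' := by ext1 <;> simp; rfl
  map_mul' a b := by
    ext1
    · funext i
      simp only [mul_v, map_mul, toAdd_mul, Pi.add_apply, Function.comp_apply]
      ring
    · rfl

theorem twist_twist (χ : W ι →* Multiplicative (ZMod 2)) (hχ : χ zz = 1) (a : W ι) : twist χ (twist χ a) = a := by
  have key : χ (twist χ a) = χ a := by
    have : twist χ a = fl (fun _ => (χ a).toAdd) * a := by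
      ext1
      · funext i; simp [twist, Equiv.Perm.one_def, add_comm]
      · simp [twist]
    rw [this, map_mul]
    have two : ∀ x : ZMod 2, x = 0 ∨ x = 1 := by decide
    rcases two (χ a).toAdd with h | h <;> rw [h]
    · rw [show fl (fun _ : ι => (0 : ZMod 2)) = 1 from rfl, map_one, one_mul]
    · rw [show fl (fun _ : ι => (1 : ZMod 2)) = zz from rfl, hχ, one_mul]
  ext1
  · funext i
    show a.v i + (χ a).toAdd + (χ (twist χ a)).toAdd = a.v i
    rw [key, add_assoc, CharTwo.add_self_eq_zero, add_zero]
  · rfl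

theorem twist_zz (χ : W ι →* Multiplicative (ZMod 2)) (hχ : χ zz = 1) : twist χ zz = zz := by
  ext1
  · funext i
    show zz.v i + (χ zz).toAdd = zz.v i
    rw [hχ, toAdd_one, add_zero]
  · rfl

/-- The flip parity. -/
def parHom : W ι →* Multiplicative (ZMod 2) where
  toFun a := Multiplicative.ofAdd (par a)
  map_one' := by simp [par]
  map_mul' a b := by rw [par_mul, ofAdd_add]

/-- The sign of the permutation. -/
def sgnHom : W ι →* Multiplicative (ZMod 2) where
  toFun a := Multiplicative.ofAdd (if Equiv.Perm.sign a.p = 1 then 0 else 1)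
  map_one' := by simp
  map_mul' a b := by
    rw [mul_p, map_mul, ← ofAdd_add]
    rcases Int.units_eq_one_or (Equiv.Perm.sign a.p) with h | h <;>
      rcases Int.units_eq_one_or (Equiv.Perm.sign b.p) with h' | h' <;> rw [h, h'] <;> decide

end Cfsg.Agent.SylClasses.W
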