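import Cfsg.Agent.Lib.SylClasses.Matching

/-!
The embedding twisted by the flip parity, evaluated on flips and permutations.
-/

set_option autoImplicit false

namespace Cfsg.Agent.SylClasses.Setup

universe u w

variable {ι : Type w} [Fintype ι] [DecidableEq ι] {G : Type u} [Group G] (s : Setup ι G)

theorem flipTwist_fl (v : ι → ZMod 2) :
    s.flipTwist.emb (W.fl v) = s.emb (W.fl (v + fun _ => ∑ i, v i)) := rfl

theorem flipTwist_pm (p : Equiv.Perm ι) : s.flipTwist.emb (W.pm p) = s.emb (W.pm p) := by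
  refine congrArg s.emb (W.ext (funext fun i => ?_) rfl)
  show (0 : ι → ZMod 2) i + (∑ j, (0 : ι → ZMod 2) j) = (0 : ι → ZMod 2) i
  simp

theorem flipTwist_t : s.flipTwist.t = s.t :=
  congrArg s.emb (W.twist_zz W.parHom s.parHom_zz)

theorem flipTwist_D : s.flipTwist.D = s.D := by
  ext x
  rw [Setup.mem_D, Setup.mem_D]
  constructor
  · rintro ⟨v, rfl⟩
    exact ⟨_, s.flipTwist_fl v⟩
  · rintro ⟨v, rfl⟩
    refine ⟨v + fun _ => ∑ i, v i, ?_⟩
    rw [flipTwist_fl]
    refine congrArg s.emb (congrArg W.fl (funext fun i => ?_))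
    simp only [Pi.add_apply, Finset.sum_add_distrib, Finset.sum_const, Finset.card_univ, s.card_eq, nsmul_eq_mul,
      Nat.cast_mul, Nat.cast_ofNat, show (2 : ZMod 2) = 0 from rfl, zero_mul, add_zero]
    rw [add_assoc, CharTwo.add_self_eq_zero, add_zero]

end Cfsg.Agent.SylClasses.Setup
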