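import Mathlib.Data.ZMod.Basic
import Mathlib.GroupTheory.GroupAction.Basic
import Mathlib.Data.Fintype.Perm
import Mathlib.GroupTheory.Sylow
import Mathlib.Algebra.Group.MinimalAxioms
import Mathlib.Algebra.CharP.Two
import Mathlib.Algebra.BigOperators.Pi
import Mathlib.Data.Fintype.Pi

/-!
Signed permutations: pairs of a flip vector and a permutation, the flips, and the standard elementary subgroups attached
to an involutive map of the points.
-/

set_option autoImplicit false

namespace Cfsg.Agent.SylClasses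

variable (ι : Type*)

/-- Signed permutations of the points. -/
@[ext]
structure W where
  /-- the flips -/
  v : ι → ZMod 2
  /-- the permutation -/
  p : Equiv.Perm ι

variable {ι}

namespace W

instance : Mul (W ι) := ⟨fun a b => ⟨a.v + b.v ∘ a.p.symm, a.p * b.p⟩⟩

instance : One (W ι) := ⟨⟨0, 1⟩⟩

instance : Inv (W ι) := ⟨fun a => ⟨a.v ∘ a.p, a.p⁻¹⟩⟩

@[simp] theorem mul_v (a b : W ι) : (a * b).v = a.v + b.v ∘ a.p.symm := rfl

@[simp] theorem mul_p (a b : W ι) : (a * b).p = a.p * b.p := rfl

@[simp] theorem one_v : (1 : W ι).v = 0 := rfl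

@[simp] theorem one_p : (1 : W ι).p = 1 := rfl

@[simp] theorem inv_v (a : W ι) : a⁻¹.v = a.v ∘ a.p := rfl

@[simp] theorem inv_p (a : W ι) : a⁻¹.p = a.p⁻¹ := rfl

instance : Group (W ι) :=
  Group.ofLeftAxioms
    (fun a b c => by
      ext1
      · funext i
        simp [add_assoc, Equiv.Perm.mul_def]
      · simp [mul_assoc])
    (fun a => by
      ext1
      · funext i; simp; rfl
      · simp)
    (fun a => by
      ext1
      · funext i
        simp only [mul_v, inv_v, inv_p, one_v, Pi.add_apply, Function.comp_apply, Pi.zero_apply]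
        exact CharTwo.add_self_eq_zero _
      · simp)

variable (ι) in
/-- The underlying equivalence. -/
def equivProd : W ι ≃ (ι → ZMod 2) × Equiv.Perm ι where
  toFun a := (a.v, a.p)
  invFun q := ⟨q.1, q.2⟩
  left_inv _ := rfl
  right_inv _ := rfl

instance [Fintype ι] [DecidableEq ι] : Fintype (W ι) := Fintype.ofEquiv _ (equivProd ι).symm

instance [DecidableEq ι] [Fintype ι] : DecidableEq (W ι) := fun a b =>
  decidable_of_iff _ (equivProd ι).injective.eq_iff

variable (ι) in
/-- The permutation of a signed permutation. -/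
def permHom : W ι →* Equiv.Perm ι where
  toFun a := a.p
  map_one' := rfl
  map_mul' _ _ := rfl

/-- The flip of a vector. -/
def fl (v : ι → ZMod 2) : W ι := ⟨v, 1⟩

/-- A permutation without flips. -/
def pm (p : Equiv.Perm ι) : W ι := ⟨0, p⟩

@[simp] theorem fl_v (v : ι → ZMod 2) : (fl v).v = v := rfl

@[simp] theorem fl_p (v : ι → ZMod 2) : (fl v).p = 1 := rfl

@[simp] theorem pm_v (p : Equiv.Perm ι) : (pm p).v = 0 := rfl

@[simp] theorem pm_p (p : Equiv.Perm ι) : (pm p).p = p := rfl

theorem fl_add (v w : ι → ZMod 2) : fl (v + w) = fl v * fl w := by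
  ext1
  · funext i; simp [Equiv.Perm.one_def]
  · simp

theorem fl_zero : fl (0 : ι → ZMod 2) = 1 := rfl

theorem fl_inj {v w : ι → ZMod 2} : fl v = fl w ↔ v = w := ⟨fun h => congrArg W.v h, congrArg fl⟩

theorem fl_sq (v : ι → ZMod 2) : fl v * fl v = 1 := by
  rw [← fl_add, show v + v = 0 from funext fun i => CharTwo.add_self_eq_zero _, fl_zero]

theorem conj_fl (a : W ι) (v : ι → ZMod 2) : a * fl v * a⁻¹ = fl (v ∘ a.p.symm) := by
  ext1
  · funext i
    simp only [mul_v, fl_v, inv_v, mul_p, fl_p, mul_one, Pi.add_apply, Function.comp_apply,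
      Equiv.apply_symm_apply]
    rw [add_comm (a.v i), add_assoc, CharTwo.add_self_eq_zero, add_zero]
  · simp

theorem eq_fl_pm (a : W ι) : a = fl a.v * pm a.p := by
  ext1
  · funext i; simp
  · simp

/-- The weight parity of the flips, the sign of the whole permutation of the doubled points. -/
def par [Fintype ι] (a : W ι) : ZMod 2 := ∑ i, a.v i

theorem par_mul [Fintype ι] (a b : W ι) : par (a * b) = par a + par b := by
  simp only [par, mul_v, Pi.add_apply, Finset.sum_add_distrib, Function.comp_apply]
  rw [Equiv.sum_comp a.p.symm b.v]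

/-- The central element: every flip. -/
def zz : W ι := fl fun _ => 1

theorem zz_central (a : W ι) : a * zz = zz * a := by
  have h := conj_fl a fun _ => 1
  rw [mul_inv_eq_iff_eq_mul] at h
  exact h

/-- The vectors constant on the pairs. -/
def InvVec (μ : ι → ι) (v : ι → ZMod 2) : Prop := ∀ i, v (μ i) = v i

/-- The standard elementary subgroup of an involutive map: flips constant on pairs, swaps of pairs. -/
def std (μ : ι → ι) (hμ : Function.Involutive μ) : Subgroup (W ι) where
  carrier := {a | InvVec μ a.v ∧ ∀ i, a.p i = i ∨ a.p i = μ i}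
  one_mem' := ⟨fun _ => rfl, fun i => Or.inl rfl⟩
  mul_mem' := by
    rintro a b ⟨ha, ha'⟩ ⟨hb, hb'⟩
    have hs : ∀ i, b.v (a.p.symm i) = b.v i := by
      intro i
      rcases ha' (a.p.symm i) with h | h <;> rw [Equiv.apply_symm_apply] at h
      · rw [← h]
      · exact (hb (a.p.symm i)).symm.trans (by rw [← h])
    refine ⟨fun i => ?_, fun i => ?_⟩
    · simp only [mul_v, Pi.add_apply, Function.comp_apply, hs, ha i, hb i]
    · rw [mul_p, Equiv.Perm.mul_apply]
      rcases hb' i with h | h <;> rw [h]
      · exact ha' i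
      · rcases ha' (μ i) with h' | h'
        · exact Or.inr h'
        · exact Or.inl (by rw [h', hμ])
  inv_mem' := by
    rintro a ⟨ha, ha'⟩
    have hs : ∀ i, a.v (a.p i) = a.v i := fun i => by rcases ha' i with h | h <;> rw [h]; exact ha i
    refine ⟨fun i => ?_, fun i => ?_⟩
    · simp only [inv_v, Function.comp_apply, hs, ha i]
    · rw [inv_p, Equiv.Perm.inv_def]
      rcases ha' (a.p.symm i) with h | h <;> rw [Equiv.apply_symm_apply] at h
      · exact Or.inl h.symm
      · exact Or.inr (by rw [h, hμ, ← h])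

theorem mem_std {μ : ι → ι} {hμ : Function.Involutive μ} {a : W ι} :
    a ∈ std μ hμ ↔ InvVec μ a.v ∧ ∀ i, a.p i = i ∨ a.p i = μ i := Iff.rfl

theorem fl_mem_std {μ : ι → ι} {hμ : Function.Involutive μ} {v : ι → ZMod 2} :
    fl v ∈ std μ hμ ↔ InvVec μ v := ⟨fun h => h.1, fun h => ⟨h, fun _ => Or.inl rfl⟩⟩

theorem std_comm {μ : ι → ι} {hμ : Function.Involutive μ} {a b : W ι} (ha : a ∈ std μ hμ) (hb : b ∈ std μ hμ) :
    a * b = b * a := by
  have hs : ∀ {a b : W ι}, a ∈ std μ hμ → b ∈ std μ hμ → ∀ i, b.v (a.p.symm i) = b.v i := by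
    intro a b ha hb i
    rcases ha.2 (a.p.symm i) with h | h <;> rw [Equiv.apply_symm_apply] at h
    · rw [← h]
    · exact (hb.1 (a.p.symm i)).symm.trans (by rw [← h])
  ext1
  · funext i
    simp only [mul_v, Pi.add_apply, Function.comp_apply, hs ha hb, hs hb ha, add_comm]
  · ext i
    simp only [mul_p, Equiv.Perm.mul_apply]
    have key : ∀ {a b : W ι}, a ∈ std μ hμ → b ∈ std μ hμ → b.p i = i → a.p i ≠ i → b.p (a.p i) = a.p i := by
      intro a b ha hb h1 h2
      have e := (ha.2 i).resolve_left h2
      rcases hb.2 (a.p i) with h | h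
      · exact h
      · rw [e, hμ] at h
        exact absurd (b.p.injective (h.trans h1.symm)) (fun e' => h2 (e.trans e'))
    by_cases h1 : a.p i = i <;> by_cases h2 : b.p i = i
    · rw [h1, h2, h1]
    · rw [key hb ha h1 h2, h1]
    · rw [h2, key ha hb h2 h1]
    · have e1 := (ha.2 i).resolve_left h1
      have e2 := (hb.2 i).resolve_left h2
      rw [e2, ← e1]
      rcases ha.2 (a.p i) with h | h
      · exact absurd (a.p.injective h) h1
      · rcases hb.2 (a.p i) with h' | h'
        · exact absurd (b.p.injective (h'.trans (e1.trans e2.symm))) h1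
        · rw [h, h']

theorem std_sq {μ : ι → ι} {hμ : Function.Involutive μ} {a : W ι} (ha : a ∈ std μ hμ) : a * a = 1 := by
  ext1
  · funext i
    have : a.v (a.p.symm i) = a.v i := by
      rcases ha.2 (a.p.symm i) with h | h <;> rw [Equiv.apply_symm_apply] at h
      · rw [← h]
      · exact (ha.1 (a.p.symm i)).symm.trans (by rw [← h])
    simp only [mul_v, Pi.add_apply, Function.comp_apply, one_v, Pi.zero_apply, this]
    exact CharTwo.add_self_eq_zero _
  · ext i
    simp only [mul_p, Equiv.Perm.mul_apply, one_p, Equiv.Perm.one_apply]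
    rcases ha.2 i with h | h
    · rw [h, h]
    · rcases ha.2 (a.p i) with h' | h'
      · exact a.p.injective (by rw [h', h'])
      · rw [h', h, hμ]

end W

end Cfsg.Agent.SylClasses
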